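import Cfsg.Agent.Lib.ConjRankThree.Reduce.Mono
import Cfsg.Agent.Lib.ConjRankThree.Main
import Cfsg.Agent.Lib.CAEven.CT

set_option autoImplicit false
set_option linter.unusedSectionVars false
set_option linter.style.haveILetI false

/-!
Non-solvable centerless groups with at most three non-trivial class sizes have transitive commuting.
-/

namespace CfsgLib.ConjRankThree

open Subgroup Cfsg

universe u

variable {G : Type u} [Group G] [Finite G] [Centerless G]

theorem flat_of_le_three (hns : ¬ Group.IsSolvable G) (h : (orders G).ncard ≤ 3) : Flat G := by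
  intro x y hx hy hd
  by_contra hne
  have hfin : (orders G).Finite := (Set.finite_le_nat (Nat.card G)).subset fun v ⟨z, hz, e⟩ => e ▸ (cc_lt hz).le
  have hlt : cc x < cc y := lt_of_le_of_ne (Nat.le_of_dvd (cc_pos y) hd) hne
  obtain ⟨w, hw, hwx, hwy⟩ : ∃ w : G, w ≠ 1 ∧ cc w ≠ cc x ∧ cc w ≠ cc y := by
    by_contra hcon
    push Not at hcon
    refine absurd (Nat.le_of_dvd (cc_pos y) ?_) (not_le.mpr (cc_lt hy))
    rw [Nat.dvd_iff_prime_pow_dvd_dvd]
    intro r k hr hk
    rcases Nat.eq_zero_or_pos k with rfl | hk0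
    · simp
    haveI := Fact.mk hr
    obtain ⟨z, hz, -, -, hzR⟩ :=
      exists_central_sylow ((dvd_pow_self r hk0.ne').trans hk) (default : Sylow r G)
    refine (Nat.pow_dvd_pow r ((hr.pow_dvd_iff_le_factorization Nat.card_pos.ne').mp hk)).trans
      ((sylow_dvd_of_le _ hzR).trans ?_)
    by_cases e : cc z = cc x
    · exact e ▸ hd
    · exact (hcon z hz e) ▸ dvd_rfl
  have hsub : ({cc x, cc y, cc w} : Set ℕ) ⊆ orders G := by
    rintro v (rfl | rfl | rfl)
    exacts [⟨x, hx, rfl⟩, ⟨y, hy, rfl⟩, ⟨w, hw, rfl⟩]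
  have he := Set.eq_of_subset_of_ncard_le hsub (by
    rw [Set.ncard_eq_three.mpr ⟨_, _, _, hne, Ne.symm hwx, Ne.symm hwy, rfl⟩]; exact h) hfin
  have hC : Chain G (cc x) (cc y) (cc w) :=
    ⟨hns, fun z hz => by
      have hm : cc z ∈ orders G := ⟨z, hz, rfl⟩
      rw [← he] at hm
      exact hm, hd, hlt, Ne.symm hwx, Ne.symm hwy, ⟨y, hy, rfl⟩, ⟨w, hw, rfl⟩⟩
  haveI := hC.mono
  obtain ⟨t, ht⟩ := hC.tame.exists_involution
  by_cases hA : 2 ^ (Nat.card G).factorization 2 ∣ cc x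
  · exact hC.not_caseA hA (ht ▸ orderOf_dvd_natCard t)
  · exact hC.not_caseB (ht ▸ orderOf_dvd_natCard t) hA

theorem psl_of_le_three (hns : ¬ Group.IsSolvable G) (h : (orders G).ncard ≤ 3) :
    ∃ (F : Type) (_ : Field F) (_ : Fintype F) (f : ℕ), 2 ≤ f ∧ Fintype.card F = 2 ^ f ∧
      Nonempty (G ≃* Matrix.ProjectiveSpecialLinearGroup (Fin 2) F) := by
  have hF := flat_of_le_three hns h
  haveI := hF.mono hns
  have hfin : (orders G).Finite := (Set.finite_le_nat (Nat.card G)).subset fun v ⟨z, hz, e⟩ => e ▸ (cc_lt hz).le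
  obtain ⟨t, ht⟩ := (hF.tame hns).exists_involution
  have hab := hF.abelian (ht ▸ orderOf_dvd_natCard t) hfin.toFinset
    (by rw [← Set.ncard_eq_toFinset_card _ hfin]; exact h) (fun x hx => hfin.mem_toFinset.mpr ⟨x, hx, rfl⟩)
  refine CAEven.exists_psl' (fun a b c _ hb _ h1 h2 => ?_) ⟨hns, fun A hA hA' => ?_⟩
  · exact hab b hb a (mem_cent.mpr h1.eq) c (mem_cent.mpr h2.eq.symm)
  · haveI := hA
    exact by_contra fun hne => abelian_normal_absurd hA' hne

end CfsgLib.ConjRankThree
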