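import Cfsg.Agent.Lib.ConjRankThree.Reduce.Two

set_option autoImplicit false
set_option linter.unusedSectionVars false
set_option linter.style.haveILetI false

/-!
Non-solvable centerless groups with few centralizer orders are monolithic.
-/

namespace CfsgLib.ConjRankThree

open Subgroup Cfsg

universe u

variable {G : Type u} [Group G] [Finite G]

theorem Tame.mono (h : Tame G)
    (htwo : ∀ N : Subgroup G, N.Normal → IsPGroup 2 N → N = ⊥) : Mono G := by
  refine ⟨fun A B hA hB hAB => ?_⟩
  haveI := hA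
  haveI := hB
  by_contra hcon
  push Not at hcon
  obtain ⟨hA0, hB0⟩ := hcon
  obtain ⟨⟨u, hu⟩, hu1⟩ := (ne_bot_iff_exists_ne_one).mp hA0
  have hu' : u ≠ 1 := fun e => hu1 (Subtype.ext e)
  obtain ⟨n, p, hp, hn, k, hk⟩ := exists_primary hu'
  haveI := h.isNilpotent_of_le_cent (L := B) hp hn hk fun v hv =>
    mem_cent.mpr (hAB _ (pow_mem hu n) v hv).symm
  obtain ⟨N, r, hr, hN, hN0, -, hab, hNr, -⟩ := exists_elementary (M := B) inferInstance hB0
  haveI := hN
  haveI := Fact.mk hr
  refine h.odd_absurd htwo hab (fun e => hN0 ?_) hNr hN0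
  subst e
  exact htwo N hN hNr

theorem Flat.tame (h : Flat G) (hns : ¬ Group.IsSolvable G) : Tame G := by
  have hm : ∀ x : G, x ≠ 1 → MinC x := fun x hx => ⟨hx, fun y hy hd => h y x hy hx hd⟩
  exact ⟨hns, fun x hx hn => absurd (hm x hx) hn, fun x y hx _ hn => absurd (hm x hx) hn,
    fun x y z hx hn => absurd (hm x hx) hn, fun x hx hn => absurd (hm x hx) hn⟩

theorem Flat.mono (h : Flat G) (hns : ¬ Group.IsSolvable G) : Mono G :=
  (h.tame hns).mono fun N hN hN2 => by
    haveI := hN
    exact by_contra fun hne => h.two_absurd (h.tame hns) hN2 hne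

theorem Chain.mono [Centerless G] {a b c : ℕ} (h : Chain G a b c) : Mono G :=
  h.tame.mono fun N hN hN2 => by
    haveI := hN
    exact by_contra fun hne => h.two_absurd hN2 hne

end CfsgLib.ConjRankThree
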