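import Cfsg.Agent.Lib.ConjRankThree.Split
import Cfsg.Agent.Lib.Frobenius.FixedPointFree
import Cfsg.Agent.Lib.ZStar.Main
import Cfsg.Agent.Lib.Involutions
import Cfsg.Agent.Lib.Basic
import Cfsg.Agent.S0205

set_option autoImplicit false
set_option linter.unusedSectionVars false
set_option linter.style.haveILetI false

/-!
Groups with few centralizer orders: no abelian normal subgroup of odd order when the 2-core is trivial.
-/

namespace CfsgLib.ConjRankThree

open Subgroup Cfsg

universe u

variable {G : Type u} [Group G] [Finite G]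

/-- What the reduction to monolithic groups needs of the centralizer orders. -/
structure Tame (G : Type u) [Group G] : Prop where
  ns : ¬ Group.IsSolvable G
  full : ∀ x : G, x ≠ 1 → ¬ MinC x → ∀ q : ℕ, q.Prime → q ∣ cc x → q ^ (Nat.card G).factorization q ∣ cc x
  eqv : ∀ x y : G, x ≠ 1 → y ≠ 1 → ¬ MinC x → ¬ MinC y → cc x = cc y
  below : ∀ x y z : G, x ≠ 1 → ¬ MinC x → y ≠ 1 → z ≠ 1 → cc y ∣ cc x → cc y ≠ cc x → cc z ∣ cc x →
    cc z ≠ cc x → cc y = cc z
  fpf : ∀ x : G, x ≠ 1 → ¬ MinC x → ∃ (w : G) (r : ℕ), r.Prime ∧ orderOf w = r ∧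
    ∀ u : G, u ≠ 1 → orderOf u ∣ cc x → ¬ Commute w u

theorem orderOf_of_isPGroup {p : ℕ} [Fact p.Prime] {H : Subgroup G} (hH : IsPGroup p H) {x : G} (hx : x ∈ H) :
    ∃ k, orderOf x = p ^ k := by
  obtain ⟨k, hk⟩ := IsPGroup.iff_orderOf.mp hH ⟨x, hx⟩
  exact ⟨k, by rwa [Subgroup.orderOf_mk] at hk⟩

theorem isSolvable_of_subgroup_le {H L : Subgroup G} (hle : H ≤ L) (hL : Group.IsSolvable L) : Group.IsSolvable H :=
  Group.isSolvable_of_isSolvable_injective (f := inclusion hle) (inclusion_injective hle)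

/-- A solvable normal subgroup of odd index, or containing a Sylow 2-subgroup, makes the group solvable. -/
theorem isSolvable_of_sylow_two_le {K : Subgroup G} [K.Normal] (hK : Group.IsSolvable K) (S : Sylow 2 G)
    (hS : (S : Subgroup G) ≤ K) : Group.IsSolvable G := by
  haveI : Fact (Nat.Prime 2) := ⟨Nat.prime_two⟩
  refine (Group.isSolvable_iff_subgroup_quotient K).mpr ⟨hK, Cfsg.Agent.S0205.result ?_⟩
  rw [← index_eq_card, ← Nat.not_even_iff_odd, even_iff_two_dvd]
  exact fun h => S.not_dvd_index (h.trans (index_dvd_of_le hS))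

/-- An element fixed by a normal subgroup's centraliser. -/
theorem mem_centralizer_of_comm {N : Subgroup G} {x : G} (h : ∀ n ∈ N, n * x = x * n) :
    x ∈ centralizer (N : Set G) := mem_centralizer_iff.mpr fun n hn => h n hn

theorem le_cent_of_centralizer {N : Subgroup G} {v : G} (hv : v ∈ N) :
    centralizer (N : Set G) ≤ centralizer ({v} : Set G) := fun _ hg =>
  mem_cent.mpr (mem_centralizer_iff.mp hg v hv).symm

namespace Tame

variable (h : Tame G)
include h

theorem exists_involution : ∃ t : G, orderOf t = 2 := by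
  haveI : Fact (Nat.Prime 2) := ⟨Nat.prime_two⟩
  by_cases h2 : 2 ∣ Nat.card G
  · exact exists_prime_orderOf_dvd_card' 2 h2
  · exact absurd (Cfsg.Agent.S0205.result (Nat.odd_iff.mpr (by omega))) h.ns

/-- A normal subgroup centralizing an element of prime power order is nilpotent. -/
theorem isNilpotent_of_le_cent {L : Subgroup G} [L.Normal] {x : G} {p k : ℕ} (hp : p.Prime) (hx : x ≠ 1)
    (hxp : orderOf x = p ^ k) (hL : L ≤ centralizer ({x} : Set G)) : Group.IsNilpotent L := by
  by_cases hm : MinC x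
  · haveI := hm.isNilpotent_cent hp hxp
    exact Group.nilpotent_of_mulEquiv (subgroupOfEquivOfLe hL)
  obtain ⟨w, r, hr, hwo, hw⟩ := h.fpf x hx hm
  haveI := Fact.mk hr
  rcases eq_or_ne L ⊥ with rfl | hne
  · infer_instance
  let φ : MulAut L := MulAut.conjNormal w
  have hfix : ∀ u : L, φ u = u → u = 1 := fun u hu => by
    by_contra hne1
    have e : w * (u : G) * w⁻¹ = u := congrArg Subtype.val hu
    exact hw u (fun e1 => hne1 (Subtype.ext e1)) (orderOf_dvd_cc (hL u.2)) (mul_inv_eq_iff_eq_mul.mp e)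
  have hord : orderOf φ = r := by
    refine orderOf_eq_prime ?_ fun e => ?_
    · rw [← map_pow, ← hwo, pow_orderOf_eq_one, map_one]
    · haveI := (Subgroup.nontrivial_iff_ne_bot L).mpr hne
      obtain ⟨u, hu⟩ := exists_ne (1 : L)
      exact hu (hfix u (by rw [e]; rfl))
  exact CfsgLib.Frob.isNilpotent_of_fpf_prime φ hfix hr hord

theorem isNilpotent_centralizer {N : Subgroup G} [N.Normal] {p : ℕ} [Fact p.Prime] (hN : IsPGroup p N)
    (hne : N ≠ ⊥) : Group.IsNilpotent (centralizer (N : Set G)) := by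
  haveI := (Subgroup.nontrivial_iff_ne_bot N).mpr hne
  obtain ⟨⟨v, hv⟩, hv1⟩ := exists_ne (1 : N)
  obtain ⟨k, hk⟩ := orderOf_of_isPGroup hN hv
  exact h.isNilpotent_of_le_cent Fact.out (fun e => hv1 (Subtype.ext e)) hk (le_cent_of_centralizer hv)

theorem cent_le {N : Subgroup G} [N.Normal] (hab : ∀ u ∈ N, ∀ v ∈ N, u * v = v * u) {p : ℕ} [Fact p.Prime]
    (hN : IsPGroup p N) {x v : G} (hxK : x ∉ centralizer (N : Set G)) (hco : (orderOf x).Coprime p)
    (hv : v ∈ N) (hv1 : v ≠ 1) (hxv : Commute x v) : centralizer ({x} : Set G) ≤ centralizer ({v} : Set G) := by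
  have hx1 : x ≠ 1 := fun e => hxK (e ▸ one_mem _)
  obtain ⟨k, hk⟩ := orderOf_of_isPGroup hN hv
  have hco' : (orderOf x).Coprime (orderOf v) := hk ▸ hco.pow_right k
  by_cases hmx : MinC x
  · exact hmx.le hxv hco'
  have hNv : N ≤ centralizer ({v} : Set G) := fun n hn => mem_cent.mpr (hab n hn v hv)
  by_cases hmv : MinC v
  · exact absurd (mem_centralizer_of_comm fun n hn =>
      mem_cent.mp ((hNv.trans (hmv.le hxv.symm hco'.symm)) hn)) hxK
  · have hpd : p ∣ cc x := by
      rw [h.eqv x v hx1 hv1 hmx hmv]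
      refine Dvd.dvd.trans ?_ (orderOf_dvd_cc (self_mem v))
      rw [hk]
      refine dvd_pow_self p fun e => hv1 (orderOf_eq_one_iff.mp ?_)
      rw [hk, e, pow_zero]
    obtain ⟨R, hR⟩ := exists_sylow_le' (h.full x hx1 hmx p Fact.out hpd)
    exact absurd (mem_centralizer_of_comm fun n hn =>
      mem_cent.mp (hR ((CfsgLib.le_pCore hN).trans (CfsgLib.pCore_le_sylow R) hn))) hxK

/-- With trivial 2-core every involution is isolated once an abelian normal subgroup of odd order exists. -/
theorem isolated (hO : ∀ M : Subgroup G, M.Normal → IsPGroup 2 M → M = ⊥) {N : Subgroup G} [N.Normal]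
    (hab : ∀ u ∈ N, ∀ v ∈ N, u * v = v * u) {p : ℕ} [Fact p.Prime] (hp2 : p ≠ 2) (hN : IsPGroup p N)
    (hne : N ≠ ⊥) {s : G} (hs : orderOf s = 2) : IsIsolated s := by
  haveI : Fact (Nat.Prime 2) := ⟨Nat.prime_two⟩
  set K := centralizer (N : Set G) with hK_def
  have hnot : ∀ t : G, orderOf t = 2 → t ∉ K := by
    intro t ht htK
    haveI := h.isNilpotent_centralizer hN hne
    obtain ⟨P, hP⟩ := exists_sylow_of_mem (G := K) (x := ⟨t, htK⟩) (r := 2) ⟨1, by
      rw [Subgroup.orderOf_mk, ht, pow_one]⟩
    haveI := P.characteristic_of_normal (P.normal_of_normalizerCondition Group.normalizerCondition_of_isNilpotent)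
    have e := hO ((P : Subgroup K).map K.subtype) ConjAct.normal_of_characteristic_of_normal (P.2.map _)
    have : t ∈ (P : Subgroup K).map K.subtype := ⟨⟨t, htK⟩, hP, rfl⟩
    rw [e, mem_bot] at this
    rw [this, orderOf_one] at ht
    omega
  have hco : ∀ t : G, orderOf t = 2 → (orderOf t).Coprime p := fun t ht => by
    rw [ht]
    exact (Nat.coprime_primes Nat.prime_two Fact.out).mpr hp2.symm
  intro g hcomm
  by_contra hne2
  set t := g * s * g⁻¹
  have ht : orderOf t = 2 := (Involutions.orderOf_conj g s).trans hs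
  have hs2 := Involutions.mul_self_eq_one_of_orderOf hs
  have ht2 := Involutions.mul_self_eq_one_of_orderOf ht
  have hq : orderOf (s * t) = 2 := Involutions.orderOf_eq_two_iff'.mpr ⟨by
    calc s * t * (s * t) = s * (t * s) * t := by group
      _ = (s * s) * (t * t) := by rw [← hcomm.eq]; group
      _ = 1 := by rw [hs2, ht2, mul_one], fun e => hne2 (by
    rw [mul_eq_one_iff_eq_inv, Involutions.inv_eq_self_of_orderOf ht] at e
    exact e.symm)⟩
  set q := s * t with hq_def
  have hq2 := Involutions.mul_self_eq_one_of_orderOf hq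
  -- the three involutions have the same fixed points in `N`
  have hfix : ∀ x y : G, orderOf x = 2 → Commute x y → ∀ v ∈ N, Commute x v → Commute y v := by
    intro x y hx hxy v hv hxv
    rcases eq_or_ne v 1 with rfl | hv1
    · exact Commute.one_right y
    · exact mem_cent.mp (h.cent_le hab hN (hnot x hx) (hco x hx) hv hv1 hxv (mem_cent.mpr hxy.eq.symm))
  have hconj : ∀ {x v : G}, orderOf x = 2 → v ∈ N → x * v * x ∈ N := fun {x v} hx hv => by
    simpa [Involutions.inv_eq_self_of_orderOf hx] using (inferInstance : N.Normal).conj_mem v hv x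
  have hsq : Commute s q := (Commute.refl s).mul_right hcomm
  refine hnot t ht (mem_centralizer_of_comm fun n hn => ?_)
  set A := n
  set B := s * n * s
  set C := t * n * t
  set D := q * n * q
  have hAm : A ∈ N := hn
  have hBm : B ∈ N := hconj hs hn
  have hCm : C ∈ N := hconj ht hn
  have hDm : D ∈ N := hconj hq hn
  have conj_mul : ∀ {x a b : G}, x * x = 1 → x * (a * b) * x = (x * a * x) * (x * b * x) := fun {x a b} hx => by
    calc x * (a * b) * x = x * a * (1 : G) * b * x := by group
      _ = x * a * (x * x) * b * x := by rw [hx]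
      _ = _ := by group
  have hfixed : ∀ {x v : G}, x * x = 1 → x * v * x = v → Commute x v := fun {x v} hx e => by
    show x * v = v * x
    calc x * v = x * v * (x * x) := by rw [hx, mul_one]
      _ = x * v * x * x := by group
      _ = v * x := by rw [e]
  have hfixed' : ∀ {x v : G}, x * x = 1 → Commute x v → x * v * x = v := fun {x v} hx e => by
    rw [e.eq, mul_assoc, hx, mul_one]
  have invol : ∀ {x a : G}, x * x = 1 → x * (x * a * x) * x = a := fun {x a} hx => by
    calc x * (x * a * x) * x = (x * x) * a * (x * x) := by group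
      _ = a := by rw [hx, one_mul, mul_one]
  have hts : t * s = s * t := hcomm.eq.symm
  have hsC : s * C * s = D := by
    calc s * (t * n * t) * s = s * t * n * (t * s) := by group
      _ = _ := by rw [hts]
  have htB : t * B * t = D := by
    calc t * (s * n * s) * t = t * s * n * (s * t) := by group
      _ = _ := by rw [hts]
  have hsD : s * D * s = C := by rw [← hsC, invol hs2]
  have htD : t * D * t = B := by rw [← htB, invol ht2]
  -- a product fixed by one involution is fixed by the other
  have e1 : A * B = C * D := by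
    have hc : Commute s (A * B) := hfixed hs2 (by
      rw [conj_mul hs2, show s * B * s = A from invol hs2]
      exact hab B hBm A hAm)
    have := hfixed' ht2 (hfix s t hs hcomm _ (mul_mem hAm hBm) hc)
    rw [conj_mul ht2, htB] at this
    exact this.symm
  have e2 : A * C = B * D := by
    have hc : Commute t (A * C) := hfixed ht2 (by
      rw [conj_mul ht2, show t * C * t = A from invol ht2]
      exact hab C hCm A hAm)
    have := hfixed' hs2 (hfix t s ht hcomm.symm _ (mul_mem hAm hCm) hc)
    rw [conj_mul hs2, hsC] at this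
    exact this.symm
  have e3 : A * D = B * C := by
    have hc : Commute q (A * D) := hfixed hq2 (by
      rw [conj_mul hq2, show q * D * q = A from invol hq2]
      exact hab D hDm A hAm)
    have := hfixed' hs2 (hfix q s hq hsq.symm _ (mul_mem hAm hDm) hc)
    rw [conj_mul hs2, hsD] at this
    exact this.symm
  have eAC : A = C := by
    letI : CommGroup N := { (inferInstance : Group N) with mul_comm := fun x y => Subtype.ext (hab x x.2 y y.2) }
    have f1 : (⟨A, hAm⟩ : N) * ⟨B, hBm⟩ = ⟨C, hCm⟩ * ⟨D, hDm⟩ := Subtype.ext e1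
    have f3 : (⟨A, hAm⟩ : N) * ⟨D, hDm⟩ = ⟨B, hBm⟩ * ⟨C, hCm⟩ := Subtype.ext e3
    set a' : N := ⟨A, hAm⟩
    set b' : N := ⟨B, hBm⟩
    set c' : N := ⟨C, hCm⟩
    set d' : N := ⟨D, hDm⟩
    have h4 : a' ^ 2 * (b' * d') = c' ^ 2 * (b' * d') := by
      calc a' ^ 2 * (b' * d') = (a' * b') * (a' * d') := by rw [pow_two]; ac_rfl
        _ = (c' * d') * (b' * c') := by rw [f1, f3]
        _ = _ := by rw [pow_two]; ac_rfl
    have h5 : a' ^ 2 = c' ^ 2 := mul_right_cancel h4
    obtain ⟨m, hm⟩ := hN.exists_card_eq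
    have hcop : (Nat.card N).Coprime 2 := hm ▸ Nat.Coprime.pow_left m ((Nat.coprime_primes Fact.out Nat.prime_two).mpr hp2)
    exact congrArg Subtype.val ((powCoprime hcop).injective (show powCoprime hcop a' = powCoprime hcop c' from h5))
  exact (hfixed ht2 eAC.symm).eq.symm

/-- An abelian normal subgroup of odd order forces a non-trivial 2-core. -/
theorem odd_absurd (hO : ∀ M : Subgroup G, M.Normal → IsPGroup 2 M → M = ⊥) {N : Subgroup G} [N.Normal]
    (hab : ∀ u ∈ N, ∀ v ∈ N, u * v = v * u) {p : ℕ} [Fact p.Prime] (hp2 : p ≠ 2) (hN : IsPGroup p N)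
    (hne : N ≠ ⊥) : False := by
  haveI : Fact (Nat.Prime 2) := ⟨Nat.prime_two⟩
  obtain ⟨t, ht⟩ := h.exists_involution
  have ht1 : t ≠ 1 := fun e => by rw [e, orderOf_one] at ht; omega
  have ht2 := Involutions.mul_self_eq_one_of_orderOf ht
  set L := pPrimeCore 2 G
  have hLodd : Odd (Nat.card L) := Nat.coprime_two_right.mp (CfsgLib.card_pPrimeCore_coprime 2)
  haveI hLn : L.Normal := by
    refine Subgroup.sSup_normal _ ?_
    exact fun M hM => hM.1
  set C := centralizer ({t} : Set G) with hC_def
  -- Frattini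
  have htop : L ⊔ C = ⊤ := by
    rw [eq_top_iff]
    intro g _
    set t' := g * t * g⁻¹ with ht'_def
    have ht' : orderOf t' = 2 := (Involutions.orderOf_conj g t).trans ht
    have hmem : t * t' ∈ L := by
      have := CfsgLib.ZStar.commutator_mem ht (h.isolated hO hab hp2 hN hne ht) g
      rwa [show t * g * t⁻¹ * g⁻¹ = t * t' by
        rw [ht'_def, Involutions.inv_eq_self_of_orderOf ht]; group] at this
    obtain ⟨d, hd, hde⟩ := Involutions.exists_conj_eq_of_odd ht2 (Involutions.mul_self_eq_one_of_orderOf ht')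
      (hLodd.of_dvd_nat (Subgroup.orderOf_dvd_natCard L hmem))
    have hdm : d ∈ L ⊔ C := by
      refine (closure_le _).mpr ?_ hd
      rintro x (rfl | rfl)
      · exact mem_sup_right (self_mem _)
      · have := mul_mem (mem_sup_right (S := L) (self_mem t)) (mem_sup_left (T := C) hmem)
        rwa [← mul_assoc, ht2, one_mul] at this
    have hc : d⁻¹ * g ∈ C := mem_cent.mpr (by
      calc d⁻¹ * g * t = d⁻¹ * (g * t * g⁻¹) * g := by group
        _ = d⁻¹ * (d * t * d⁻¹) * g := by rw [hde]
        _ = _ := by group)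
    have := mul_mem hdm (mem_sup_right (S := L) hc)
    rwa [mul_inv_cancel_left] at this
  -- the centralizer is solvable
  have hCs : Group.IsSolvable C := by
    by_cases hm : MinC t
    · haveI := hm.isNilpotent_cent Nat.prime_two (k := 1) (by rw [ht, pow_one])
      infer_instance
    have hred : ∀ x : C, (orderOf x).Coprime 2 → x ∉ center C →
        cc (t * (x : G)) ∣ cc t ∧ cc (t * (x : G)) ≠ cc t ∧ t * (x : G) ≠ 1 ∧
          Nat.card (centralizer ({x} : Set C)) = cc (t * (x : G)) := by
      intro x hx hxc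
      have hxt : Commute t (x : G) := (mem_cent.mp x.2).symm
      have hco : (orderOf t).Coprime (orderOf (x : G)) := by rw [ht, Subgroup.orderOf_coe]; exact hx.symm
      have hmul := mul_cent hxt hco
      refine ⟨cc_le_of_le (hmul.le.trans inf_le_left), fun e => hxc (mem_center_iff.mpr fun g => Subtype.ext ?_),
        mul_ne_one_of_coprime ht1 hco, ?_⟩
      · have he : centralizer ({t * (x : G)} : Set G) = C := eq_of_le_of_card_ge (hmul.le.trans inf_le_left) e.ge
        exact mem_cent.mp ((he.ge.trans (hmul.le.trans inf_le_right)) g.2)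
      · show _ = Nat.card (centralizer ({t * (x : G)} : Set G))
        rw [hmul]
        refine Nat.card_congr
          { toFun := fun g => ⟨(g.1 : G), g.1.2, mem_cent.mpr (congrArg Subtype.val (mem_centralizer_singleton_iff.mp g.2))⟩
            invFun := fun g => ⟨⟨g.1, g.2.1⟩, mem_centralizer_singleton_iff.mpr (Subtype.ext (mem_cent.mp g.2.2))⟩
            left_inv := fun g => rfl
            right_inv := fun g => rfl }
    obtain ⟨m, hm'⟩ : ∃ m, ∀ x : C, (orderOf x).Coprime 2 → x ∉ center C →
        (centralizer ({x} : Set C)).index = m := by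
      by_cases hex : ∃ x : C, (orderOf x).Coprime 2 ∧ x ∉ center C
      · obtain ⟨x0, hx0, hx0c⟩ := hex
        refine ⟨(centralizer ({x0} : Set C)).index, fun x hx hxc => ?_⟩
        obtain ⟨a1, a2, a3, a4⟩ := hred x hx hxc
        obtain ⟨b1, b2, b3, b4⟩ := hred x0 hx0 hx0c
        have h1 := (centralizer ({x} : Set C)).card_mul_index
        rw [← (centralizer ({x0} : Set C)).card_mul_index, a4, b4, h.below t _ _ ht1 hm a3 b3 a1 a2 b1 b2] at h1
        exact Nat.eq_of_mul_eq_mul_left (cc_pos _) h1
      · exact ⟨0, fun x hx hxc => absurd ⟨x, hx, hxc⟩ hex⟩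
    obtain ⟨D, hDn, hD2, k, hDi⟩ := exists_nilpotent_complement Nat.prime_two hm'
    obtain ⟨R⟩ : Nonempty (Sylow 2 C) := inferInstance
    exact isSolvable_of_complement Nat.prime_two hDn hD2 hDi R.2 (R.card_eq_multiplicity ▸ dvd_rfl)
  refine h.ns ((Group.isSolvable_iff_subgroup_quotient L).mpr ⟨Cfsg.Agent.S0205.result hLodd, ?_⟩)
  haveI := hCs
  refine Group.isSolvable_of_surjective (f := (QuotientGroup.mk' L).comp C.subtype) fun q => ?_
  induction q using QuotientGroup.induction_on with
  | H g =>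
    obtain ⟨l, hl, cg, hcg, hlc⟩ := mem_sup_of_normal_right.mp (show g ∈ C ⊔ L by rw [sup_comm, htop]; exact mem_top g)
    refine ⟨⟨l, hl⟩, ?_⟩
    show ((l : G) : G ⧸ L) = (g : G ⧸ L)
    rw [QuotientGroup.eq, ← hlc, inv_mul_cancel_left]
    exact hcg

end Tame

end CfsgLib.ConjRankThree
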