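import Cfsg.Agent.Lib.ConjRankThree.Reduce.Tame
import Cfsg.Agent.Lib.ConjRankThree.Flat
import Cfsg.Agent.Lib.KazarinSolvable
import Cfsg.Agent.Lib.Components

set_option autoImplicit false
set_option linter.unusedSectionVars false
set_option linter.style.haveILetI false

/-!
Groups with few centralizer orders have trivial 2-core.
-/

namespace CfsgLib.ConjRankThree

open Subgroup Cfsg

universe u

variable {G : Type u} [Group G] [Finite G]

theorem exists_elementary {M : Subgroup G} [M.Normal] (hs : Group.IsSolvable M) (hne : M ≠ ⊥) :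
    ∃ (N : Subgroup G) (p : ℕ), p.Prime ∧ N.Normal ∧ N ≠ ⊥ ∧ N ≤ M ∧ (∀ u ∈ N, ∀ v ∈ N, u * v = v * u) ∧
      IsPGroup p N ∧ ∀ K : Subgroup G, K.Normal → K ≤ N → K = ⊥ ∨ K = N := by
  obtain ⟨N, hN, hNM, hN0, hmin⟩ := CfsgLib.exists_minimal_normal hne
  haveI := hN
  obtain ⟨hab, p, hp, hexp⟩ := CfsgLib.minimal_normal_elementary hN0 (isSolvable_of_subgroup_le hNM hs) hmin
  exact ⟨N, p, hp, hN, hN0, hNM, fun u hu v hv => congrArg Subtype.val (hab.is_comm.comm ⟨u, hu⟩ ⟨v, hv⟩),
    fun x => ⟨1, Subtype.ext (by simpa using hexp x x.2)⟩, hmin⟩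

/-- A minimal normal subgroup of a nilpotent normal subgroup is central in it. -/
theorem minimal_le_centralizer {N K : Subgroup G} [N.Normal] [K.Normal] [Group.IsNilpotent K]
    (hN : N ≠ ⊥) (hle : N ≤ K) (hmin : ∀ M : Subgroup G, M.Normal → M ≤ N → M = ⊥ ∨ M = N) :
    K ≤ centralizer (N : Set G) := by
  have hne : N.subgroupOf K ≠ ⊥ := by
    rw [Ne, subgroupOf_eq_bot, disjoint_iff, inf_eq_left.mpr hle]
    exact hN
  set M := ((center K).map K.subtype) ⊓ N
  haveI : ((center K).map K.subtype).Normal := ConjAct.normal_of_characteristic_of_normal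
  have hMne : M ≠ ⊥ := by
    obtain ⟨⟨x, hx⟩, hx1⟩ := (ne_bot_iff_exists_ne_one).mp (CfsgLib.inf_center_ne_bot_of_nilpotent hne)
    obtain ⟨hxN, hxZ⟩ := Subgroup.mem_inf.mp hx
    intro e
    refine hx1 (Subtype.ext (Subtype.ext (mem_bot.mp (e ▸ ?_ : (x : G) ∈ (⊥ : Subgroup G)))))
    exact ⟨⟨x, hxZ, rfl⟩, mem_subgroupOf.mp hxN⟩
  have hMN : M = N := (hmin M inferInstance inf_le_right).resolve_left hMne
  intro g hg
  refine mem_centralizer_of_comm fun n hn => ?_
  obtain ⟨x, hx, rfl⟩ := (hMN.ge hn).1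
  exact (congrArg Subtype.val (mem_center_iff.mp hx ⟨g, hg⟩)).symm

theorem exists_central_of_normal {r : ℕ} [Fact r.Prime] (R : Sylow r G) {N : Subgroup G} [N.Normal]
    (hN : IsPGroup r N) (hne : N ≠ ⊥) :
    ∃ v ∈ N, v ≠ 1 ∧ (R : Subgroup G) ≤ centralizer ({v} : Set G) := by
  have hle : N ≤ R := (CfsgLib.le_pCore hN).trans (CfsgLib.pCore_le_sylow R)
  haveI := R.2.isNilpotent
  have h0 : N.subgroupOf (R : Subgroup G) ≠ ⊥ := by
    rw [Ne, subgroupOf_eq_bot, disjoint_iff, inf_eq_left.mpr hle]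
    exact hne
  obtain ⟨⟨x, hx⟩, hx1⟩ := (ne_bot_iff_exists_ne_one).mp (CfsgLib.inf_center_ne_bot_of_nilpotent h0)
  obtain ⟨hxN, hxZ⟩ := Subgroup.mem_inf.mp hx
  exact ⟨x, mem_subgroupOf.mp hxN, fun e => hx1 (Subtype.ext (Subtype.ext e)),
    fun g hg => mem_cent.mpr (congrArg Subtype.val (mem_center_iff.mp hxZ ⟨g, hg⟩))⟩

/-- Two commuting elements of coprime orders with one centralizer, a normal subgroup of the first prime. -/
theorem equal_absurd {N : Subgroup G} [N.Normal] (hab : ∀ u ∈ N, ∀ v ∈ N, u * v = v * u) {q : ℕ} [Fact q.Prime]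
    (hN : IsPGroup q N) {u y : G} (hu : ∃ k, orderOf u = q ^ k) (hy : (orderOf y).Coprime q)
    (huy : Commute u y) (heq : centralizer ({u} : Set G) = centralizer ({y} : Set G))
    (hyN : y ∉ centralizer (N : Set G)) : False := by
  have hf : ∀ n ∈ N, n * (y * n⁻¹ * y⁻¹) ∈ N := fun n hn =>
    mul_mem hn ((inferInstance : N.Normal).conj_mem _ (inv_mem hn) y)
  let φ : N →* N :=
    { toFun := fun n => ⟨(n : G) * (y * (n : G)⁻¹ * y⁻¹), hf n n.2⟩
      map_one' := Subtype.ext (by simp)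
      map_mul' := fun a b => Subtype.ext (by
        show (a : G) * b * (y * ((a : G) * b)⁻¹ * y⁻¹) = (a : G) * (y * (a : G)⁻¹ * y⁻¹) * ((b : G) * (y * (b : G)⁻¹ * y⁻¹))
        have h1 : ∀ v ∈ N, v * (b : G) = b * v := fun v hv => hab v hv b b.2
        rw [hab a a.2 b b.2, show y * ((b : G) * a)⁻¹ * y⁻¹ = (y * (a : G)⁻¹ * y⁻¹) * (y * (b : G)⁻¹ * y⁻¹) by group,
          ← mul_assoc, ← mul_assoc, mul_assoc (b : G), ← h1 _ (hf a a.2)]
        group) }
  set D := φ.range.map N.subtype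
  have hmem : ∀ d, d ∈ D ↔ ∃ n ∈ N, n * (y * n⁻¹ * y⁻¹) = d := by
    intro d
    constructor
    · rintro ⟨_, ⟨n, rfl⟩, rfl⟩
      exact ⟨n, n.2, rfl⟩
    · rintro ⟨n, hn, rfl⟩
      exact ⟨φ ⟨n, hn⟩, ⟨⟨n, hn⟩, rfl⟩, rfl⟩
  have hDN : D ≤ N := map_subtype_le _
  have hDne : D ≠ ⊥ := fun e => hyN (mem_centralizer_of_comm fun n hn => by
    have h1 := mem_bot.mp (e ▸ (hmem _).mpr ⟨n, hn, rfl⟩)
    rw [mul_eq_one_iff_eq_inv] at h1
    calc n * y = (y * n⁻¹ * y⁻¹)⁻¹ * y := congrArg (· * y) h1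
      _ = y * n := by group)
  have hinv : ∀ g ∈ zpowers u, ∀ d ∈ D, g * d * g⁻¹ ∈ D := by
    intro g hg d hd
    obtain ⟨i, rfl⟩ := mem_zpowers_iff.mp hg
    obtain ⟨n, hn, rfl⟩ := (hmem d).mp hd
    have hc : u ^ i * y = y * u ^ i := (huy.zpow_left i).eq
    refine (hmem _).mpr ⟨u ^ i * n * (u ^ i)⁻¹, (inferInstance : N.Normal).conj_mem n hn _, ?_⟩
    generalize u ^ i = g at hc
    calc g * n * g⁻¹ * (y * (g * n * g⁻¹)⁻¹ * y⁻¹) = g * n * g⁻¹ * ((y * g) * n⁻¹ * (y * g)⁻¹) := by group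
      _ = g * n * g⁻¹ * ((g * y) * n⁻¹ * (g * y)⁻¹) := by rw [hc]
      _ = _ := by group
  letI : MulAction (zpowers u) D :=
    { smul := fun g d => ⟨(g : G) * d * (g : G)⁻¹, hinv g g.2 d d.2⟩
      one_smul := fun d => Subtype.ext (show ((1 : zpowers u) : G) * d * ((1 : zpowers u) : G)⁻¹ = d by simp)
      mul_smul := fun a b d => Subtype.ext (show ((a * b : zpowers u) : G) * d * ((a * b : zpowers u) : G)⁻¹ =
        (a : G) * ((b : G) * d * (b : G)⁻¹) * (a : G)⁻¹ by push_cast; group) }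
  obtain ⟨k, hk⟩ := hu
  have hp : IsPGroup q (zpowers u) := IsPGroup.of_card (n := k) (by rw [Nat.card_zpowers, hk])
  have hDp : q ∣ Nat.card D := by
    obtain ⟨m, hm⟩ := (hN.to_le hDN).exists_card_eq
    rw [hm]
    refine dvd_pow_self q fun e => hDne ?_
    rw [e, pow_zero] at hm
    exact card_eq_one.mp hm
  obtain ⟨⟨d, hd⟩, hfix, hne⟩ := hp.exists_fixed_point_of_prime_dvd_card_of_fixed_point D hDp (a := (1 : D))
    (fun g => Subtype.ext (show (g : G) * ((1 : D) : G) * (g : G)⁻¹ = _ by simp))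
  have hd1 : d ≠ 1 := fun e => hne (Subtype.ext e.symm)
  have hdu : d ∈ centralizer ({u} : Set G) :=
    mem_cent.mpr (mul_inv_eq_iff_eq_mul.mp (congrArg Subtype.val (hfix ⟨u, mem_zpowers u⟩))).symm
  have hdy : d * y = y * d := mem_cent.mp (heq ▸ hdu)
  obtain ⟨n, hn, hnd⟩ := (hmem d).mp hd
  have key : ∀ i : ℕ, y ^ i * n * (y ^ i)⁻¹ = n * (d ^ i)⁻¹ := by
    intro i
    induction i with
    | zero => simp
    | succ i ih =>
      have hc : Commute y ((d ^ i)⁻¹) := ((show Commute y d from hdy.symm).pow_right i).inv_right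
      have hyn : y * n * y⁻¹ = d⁻¹ * n := by rw [← hnd]; group
      calc y ^ (i + 1) * n * (y ^ (i + 1))⁻¹ = y * (y ^ i * n * (y ^ i)⁻¹) * y⁻¹ := by rw [pow_succ']; group
        _ = (y * n * y⁻¹) * (y * (d ^ i)⁻¹ * y⁻¹) := by rw [ih]; group
        _ = d⁻¹ * n * (d ^ i)⁻¹ := by rw [hyn, hc.eq, mul_inv_cancel_right]
        _ = n * (d ^ (i + 1))⁻¹ := by
          rw [hab _ (inv_mem (hDN hd)) n hn, pow_succ, mul_inv_rev]; group
  have := key (orderOf y)
  rw [pow_orderOf_eq_one, one_mul, inv_one, mul_one, eq_comm, mul_eq_left, inv_eq_one] at this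
  obtain ⟨l, hl⟩ := orderOf_of_isPGroup (hN.to_le hDN) hd
  have hco : (orderOf d).Coprime (orderOf y) := hl ▸ (hy.symm.pow_left l)
  exact hd1 (orderOf_eq_one_iff.mp (Nat.eq_one_of_dvd_coprimes hco dvd_rfl (orderOf_dvd_of_pow_eq_one this)))

/-- A Sylow 2-subgroup is abelian when all centralizers of its elements are Sylow subgroups. -/
theorem sylow_two_comm (h : ∀ (Q : Sylow 2 G) (y : G), y ∈ (Q : Subgroup G) → y ≠ 1 →
      ∃ R : Sylow 2 G, (R : Subgroup G) = centralizer ({y} : Set G)) (P : Sylow 2 G) :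
    ∀ u ∈ (P : Subgroup G), ∀ v ∈ (P : Subgroup G), u * v = v * u := by
  haveI : Fact (Nat.Prime 2) := ⟨Nat.prime_two⟩
  by_contra hPn
  have hZ : ∀ (Q : Sylow 2 G) (z : G), z ∈ (Q : Subgroup G) →
      (Q : Subgroup G) ≤ centralizer ({z} : Set G) → z * z = 1 := by
    intro Q z hzQ hzc
    have hQn := sylow_nab P Q hPn
    haveI : Nontrivial ((Q : Subgroup G) ⧸ center (Q : Subgroup G)) := by
      rw [← Finite.one_lt_card_iff_nontrivial, ← index_eq_card]
      refine Nat.lt_of_le_of_ne (Nat.pos_of_ne_zero index_ne_zero_of_finite) fun e => hQn ?_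
      intro u hu v hv
      exact congrArg Subtype.val (mem_center_iff.mp
        ((index_eq_one.mp e.symm) ▸ mem_top (⟨v, hv⟩ : (Q : Subgroup G))) ⟨u, hu⟩)
    obtain ⟨n, hn, hcard⟩ := (Q.2.to_quotient (center (Q : Subgroup G))).nontrivial_iff_card.mp inferInstance
    obtain ⟨yq, hyq⟩ := exists_prime_orderOf_dvd_card' (G := (Q : Subgroup G) ⧸ center (Q : Subgroup G)) 2
      (hcard ▸ dvd_pow_self 2 (by omega))
    induction yq using QuotientGroup.induction_on with
    | H y =>
      have hyn : y ∉ center (Q : Subgroup G) := fun e => by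
        rw [(QuotientGroup.eq_one_iff y).mpr e, orderOf_one] at hyq
        omega
      have hy2 : y * y ∈ center (Q : Subgroup G) := by
        rw [← QuotientGroup.eq_one_iff, QuotientGroup.mk_mul, ← pow_two]
        exact orderOf_dvd_iff_pow_eq_one.mp hyq.dvd
      have sq_one : ∀ y : (Q : Subgroup G), y ∉ center (Q : Subgroup G) → y * y ∈ center (Q : Subgroup G) →
          (y : G) * y = 1 := by
        intro y hyn hy2
        by_contra hne
        have hy1 : (y : G) ≠ 1 := fun e => hne (by rw [e, one_mul])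
        obtain ⟨R, hR⟩ := h Q y y.2 hy1
        obtain ⟨R', hR'⟩ := h Q ((y : G) * y) (y * y).2 hne
        have hle : centralizer ({(y : G)} : Set G) ≤ centralizer ({(y : G) * y} : Set G) := by
          have := cent_le_pow (y : G) 2
          rwa [pow_two] at this
        have e := eq_of_le_of_card_ge hle (le_of_eq (by
          rw [← hR, ← hR', R.card_eq_multiplicity, R'.card_eq_multiplicity]))
        refine hyn (mem_center_iff.mpr fun g => Subtype.ext ?_)
        exact mem_cent.mp (e.symm ▸ mem_cent.mpr (congrArg Subtype.val (mem_center_iff.mp hy2 g)))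
      have hzZ : (⟨z, hzQ⟩ : (Q : Subgroup G)) ∈ center (Q : Subgroup G) :=
        mem_center_iff.mpr fun g => Subtype.ext (mem_cent.mp (hzc g.2))
      have h1 := sq_one y hyn hy2
      have hcomm : y * ⟨z, hzQ⟩ = ⟨z, hzQ⟩ * y := mem_center_iff.mp hzZ y
      have hsq : (y * ⟨z, hzQ⟩) * (y * ⟨z, hzQ⟩) = ⟨z, hzQ⟩ * ⟨z, hzQ⟩ := by
        calc (y * ⟨z, hzQ⟩) * (y * ⟨z, hzQ⟩) = y * (⟨z, hzQ⟩ * y) * ⟨z, hzQ⟩ := by group
          _ = (y * y) * (⟨z, hzQ⟩ * ⟨z, hzQ⟩) := by rw [← hcomm]; group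
          _ = _ := by rw [show y * y = 1 from Subtype.ext h1, one_mul]
      have h2 := sq_one (y * ⟨z, hzQ⟩) (fun e => hyn ((mul_mem_cancel_right hzZ).mp e))
        (hsq ▸ mul_mem hzZ hzZ)
      exact (congrArg Subtype.val hsq).symm.trans h2
  refine hPn fun u hu v hv => ?_
  have sq : ∀ y ∈ (P : Subgroup G), y * y = 1 := by
    intro y hy
    rcases eq_or_ne y 1 with rfl | hy1
    · exact one_mul 1
    obtain ⟨Q, hQ⟩ := h P y hy hy1
    exact hZ Q y (hQ.symm ▸ self_mem y) hQ.le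
  have huv := sq _ (mul_mem hu hv)
  calc u * v = u * (u * v * (u * v)) * v := by rw [huv, mul_one]
    _ = (u * u) * v * u * (v * v) := by group
    _ = _ := by rw [sq u hu, sq v hv, one_mul, mul_one]

/-- No normal 2-subgroup when all centralizer orders are incomparable. -/
theorem Flat.two_absurd (h : Flat G) (ht : Tame G) {N : Subgroup G} [N.Normal] (hN : IsPGroup 2 N) (hne : N ≠ ⊥) :
    False := by
  haveI : Fact (Nat.Prime 2) := ⟨Nat.prime_two⟩
  obtain ⟨S⟩ : Nonempty (Sylow 2 G) := inferInstance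
  obtain ⟨v, hv, hv1, hSv⟩ := exists_central_of_normal S hN hne
  have hab := h.two_cent_ab hv1 (orderOf_of_isPGroup hN hv)
  have hle : N ≤ S := (CfsgLib.le_pCore hN).trans (CfsgLib.pCore_le_sylow S)
  haveI := ht.isNilpotent_centralizer hN hne
  exact ht.ns (isSolvable_of_sylow_two_le (K := centralizer (N : Set G)) inferInstance S fun g hg =>
    mem_centralizer_of_comm fun n hn => hab n (hSv (hle hn)) g (hSv hg))

namespace Chain

variable [Centerless G] {a b c : ℕ}

theorem one_lt_c (h : Chain G a b c) : 1 < c := by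
  obtain ⟨w, hw, hwc⟩ := h.exC
  rw [← hwc]
  haveI : Nontrivial (centralizer ({w} : Set G)) := ⟨⟨⟨w, self_mem w⟩, 1, fun e => hw (congrArg Subtype.val e)⟩⟩
  exact Finite.one_lt_card

theorem minC_c (h : Chain G a b c) {x : G} (hx : x ≠ 1) (hxc : cc x = c) : MinC x := by
  refine ⟨hx, fun y hy hd => ?_⟩
  rw [hxc] at hd ⊢
  rcases h.val y hy with e | e | e
  · exfalso
    have : cc y = 1 := Nat.eq_one_of_dvd_coprimes h.coprime (e ▸ h.hab) hd
    have h1 := this ▸ orderOf_dvd_cc (self_mem y)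
    exact hy (orderOf_eq_one_iff.mp (Nat.dvd_one.mp h1))
  · exact absurd (e ▸ hd) h.not_b_dvd_c
  · exact e

theorem minC_a (h : Chain G a b c) {x : G} (hx : x ≠ 1) (hxa : cc x = a) : MinC x :=
  ⟨hx, fun y hy hd => by rw [hxa] at hd ⊢; exact h.cc_eq_a hy hd⟩

theorem cc_of_not_minC (h : Chain G a b c) {x : G} (hx : x ≠ 1) (hm : ¬ MinC x) : cc x = b := by
  rcases h.val x hx with e | e | e
  · exact absurd (h.minC_a hx e) hm
  · exact e
  · exact absurd (h.minC_c hx e) hm

theorem tame (h : Chain G a b c) : Tame G where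
  ns := h.ns
  full x hx hm q hq hd := by
    rw [h.cc_of_not_minC hx hm] at hd ⊢
    refine (h.full_or hq).resolve_right fun e => ?_
    have hpos := (hq.factorization_pos_of_dvd Nat.card_pos.ne' (hd.trans h.dvd_g.1)).ne'
    exact hq.one_lt.ne' (Nat.eq_one_of_dvd_coprimes h.coprime hd ((dvd_pow_self q hpos).trans e))
  eqv x y hx hy hmx hmy := by rw [h.cc_of_not_minC hx hmx, h.cc_of_not_minC hy hmy]
  below x y z hx hm hy hz hyd hyne hzd hzne := by
    rw [h.cc_of_not_minC hx hm] at hyd hyne hzd hzne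
    have key : ∀ v : G, v ≠ 1 → cc v ∣ b → cc v ≠ b → cc v = a := fun v hv hd hne => by
      rcases h.val v hv with e | e | e
      · exact e
      · exact absurd e hne
      · exact absurd (e ▸ hd) h.not_c_dvd_b
    rw [key y hy hyd hyne, key z hz hzd hzne]
  fpf x hx hm := by
    obtain ⟨w0, hw0, hw0c⟩ := h.exC
    obtain ⟨r, hr, hrc⟩ := Nat.exists_prime_and_dvd h.one_lt_c.ne'
    obtain ⟨w, -, hwo, hw1⟩ := exists_orderOf_dvd hr (H := centralizer ({w0} : Set G)) (show r ∣ cc w0 from hw0c.symm ▸ hrc)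
    have hwc : cc w = c := by
      rcases h.orderOf_dvd hw1 with ⟨e, -, -⟩ | ⟨-, -, hn⟩
      · exact e
      · exact absurd (hwo ▸ hrc) hn
    refine ⟨w, r, hr, hwo, fun u hu hud hc => ?_⟩
    rw [h.cc_of_not_minC hx hm] at hud
    have huc := h.cc_c_comm hw1 hu hwc (mem_cent.mpr hc.eq.symm)
    rcases h.orderOf_dvd hu with ⟨-, -, hn⟩ | ⟨e | e, -, -⟩
    · exact hn hud
    · exact h.hac (e ▸ huc)
    · exact h.hbc (e ▸ huc)

/-- No normal 2-subgroup in the chain case. -/
theorem two_absurd (h : Chain G a b c) {M : Subgroup G} [M.Normal] (hM : IsPGroup 2 M) (hMne : M ≠ ⊥) : False := by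
  haveI : Fact (Nat.Prime 2) := ⟨Nat.prime_two⟩
  haveI := hM.isNilpotent
  obtain ⟨N, p, hp, hNn, hNne, hNM, hab, hNp, hmin⟩ := exists_elementary (M := M) inferInstance hMne
  obtain rfl : p = 2 := by
    haveI := Fact.mk hp
    obtain ⟨⟨v, hv⟩, hv1⟩ := (ne_bot_iff_exists_ne_one).mp hNne
    obtain ⟨i, hi⟩ := orderOf_of_isPGroup hNp hv
    obtain ⟨j, hj⟩ := orderOf_of_isPGroup hM (hNM hv)
    have hi0 : i ≠ 0 := fun e => hv1 (Subtype.ext (orderOf_eq_one_iff.mp (by rw [hi, e, pow_zero])))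
    exact (Nat.prime_dvd_prime_iff_eq hp Nat.prime_two).mp (hp.dvd_of_dvd_pow (hj ▸ hi ▸ dvd_pow_self p hi0))
  haveI := hNn
  set K := centralizer (N : Set G) with hK_def
  haveI hKnil := h.tame.isNilpotent_centralizer hNp hNne
  have hsol : ∀ R : Sylow 2 G, ¬ (R : Subgroup G) ≤ K := fun R hR =>
    h.ns (isSolvable_of_sylow_two_le (K := K) inferInstance R hR)
  obtain ⟨S⟩ : Nonempty (Sylow 2 G) := inferInstance
  have hle : ∀ R : Sylow 2 G, N ≤ R := fun R => (CfsgLib.le_pCore hNp).trans (CfsgLib.pCore_le_sylow R)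
  obtain ⟨v0, hv0, hv01, hSv⟩ := exists_central_of_normal S hNp hNne
  have hfull := sylow_dvd_of_le S hSv
  have h2v : 2 ∣ orderOf v0 := by
    obtain ⟨k, hk⟩ := orderOf_of_isPGroup hNp hv0
    rw [hk]
    exact dvd_pow_self 2 fun e => hv01 (orderOf_eq_one_iff.mp (by rw [hk, e, pow_zero]))
  have h2G : 2 ∣ Nat.card G := h2v.trans (orderOf_dvd_natCard v0)
  have hv2 : 2 ∣ cc v0 := h2v.trans (orderOf_dvd_cc (self_mem v0))
  by_cases hv0c : cc v0 = c
  · rw [hv0c] at hfull hv2
    refine hsol S fun g hg => mem_centralizer_of_comm fun n hn => ?_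
    by_cases hnp : ∃ s k : ℕ, s.Prime ∧ c = s ^ k
    swap
    · exact h.comm_c_of hnp hv01 hv0c (hSv (hle S hn)) (hSv hg)
    obtain ⟨s, k, hs, hck⟩ := hnp
    obtain rfl : s = 2 := ((Nat.prime_dvd_prime_iff_eq Nat.prime_two hs).mp
      (Nat.prime_two.dvd_of_dvd_pow (hck ▸ hv2))).symm
    have hc2 : c = 2 ^ (Nat.card G).factorization 2 := by
      refine Nat.dvd_antisymm ?_ hfull
      rw [hck]
      exact Nat.pow_dvd_pow 2 ((Nat.prime_two.pow_dvd_iff_le_factorization Nat.card_pos.ne').mp (hck ▸ h.dvd_g.2))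
    refine sylow_two_comm (fun Q y hy hy1 => ?_) S n (hle S hn) g hg
    have hyc : cc y = c := by
      rcases h.orderOf_dvd hy1 with ⟨e, -, -⟩ | ⟨-, -, hn'⟩
      · exact e
      · exact absurd ((Subgroup.orderOf_dvd_natCard _ hy).trans (Q.card_eq_multiplicity ▸ hc2.symm.dvd)) hn'
    obtain ⟨R, hR⟩ := exists_sylow_le' (x := y) (r := 2) (by rw [hyc, ← hc2])
    exact ⟨R, eq_of_le_of_card_ge hR (le_of_eq (by rw [R.card_eq_multiplicity, ← hc2]; exact hyc))⟩
  have hvb : cc v0 ∣ b := by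
    rcases h.val v0 hv01 with e | e | e
    · exact e ▸ h.hab
    · exact e ▸ dvd_rfl
    · exact absurd e hv0c
  have hfb : 2 ^ (Nat.card G).factorization 2 ∣ b := hfull.trans hvb
  have hnc : ¬ 2 ∣ c := fun e => by
    have := Nat.eq_one_of_dvd_coprimes h.coprime (hv2.trans hvb) e
    omega
  -- elements of K have order dividing b
  have hKb : ∀ v ∈ K, orderOf v ∣ b := by
    intro v hv
    rcases eq_or_ne v 1 with rfl | hv1
    · rw [orderOf_one]; exact one_dvd b
    rcases h.orderOf_dvd hv1 with ⟨e, -, -⟩ | ⟨-, hd, -⟩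
    · exact absurd (h.cc_c_comm hv1 hv01 e (mem_cent.mpr (mem_centralizer_iff.mp hv v0 hv0))) hv0c
    · exact hd
  have hnec : ∀ v : G, v ≠ 1 → orderOf v ∣ b → cc v ≠ c := fun v hv hd e => by
    rcases h.orderOf_dvd hv with ⟨-, -, hn⟩ | ⟨e' | e', -, -⟩
    · exact hn hd
    · exact h.hac (e'.symm.trans e)
    · exact h.hbc (e'.symm.trans e)
  -- outside K these elements have the smallest order of centralizer
  have hB : ∀ y : G, y ∉ K → orderOf y ∣ b → cc y = a := by
    intro y hyK hyd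
    have hy1 : y ≠ 1 := fun e => hyK (e ▸ one_mem K)
    rcases h.val y hy1 with e | e | e
    · exact e
    · obtain ⟨R, hR⟩ := exists_sylow_le' (x := y) (r := 2) (e.symm ▸ hfb)
      exact absurd (mem_centralizer_of_comm fun n hn => mem_cent.mp (hR (hle R hn))) hyK
    · exact absurd e (hnec y hy1 hyd)
  obtain ⟨y, hyS, hyK⟩ := SetLike.not_le_iff_exists.mp (hsol S)
  obtain ⟨ky, hky⟩ := orderOf_of_isPGroup S.2 hyS
  have hy1 : y ≠ 1 := fun e => hyK (e ▸ one_mem K)
  have hya : cc y = a := hB y hyK ((Subgroup.orderOf_dvd_natCard _ hyS).trans (S.card_eq_multiplicity ▸ hfb))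
  have hmy := h.minC_a hy1 hya
  by_cases hodd : ∃ r : ℕ, r.Prime ∧ r ≠ 2 ∧ r ∣ Nat.card K
  · obtain ⟨r, hr, hr2, hrK⟩ := hodd
    haveI := Fact.mk hr
    obtain ⟨P⟩ : Nonempty (Sylow r K) := inferInstance
    have hPn : P.Normal := P.normal_of_normalizerCondition Group.normalizerCondition_of_isNilpotent
    haveI := P.characteristic_of_normal hPn
    haveI : ((P : Subgroup K).map K.subtype).Normal := ConjAct.normal_of_characteristic_of_normal
    have hP0 : (P : Subgroup K).map K.subtype ≠ ⊥ := by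
      rw [Ne, map_eq_bot_iff_of_injective _ K.subtype_injective]
      intro e
      have := P.card_eq_multiplicity
      rw [e, card_bot] at this
      exact (Nat.one_lt_pow (hr.factorization_pos_of_dvd Nat.card_pos.ne' hrK).ne' hr.one_lt).ne this
    haveI : Group.IsNilpotent ((P : Subgroup K).map K.subtype) := (P.2.map _).isNilpotent
    obtain ⟨N', p, hp, hN'n, hN'ne, hN'P, hab', hN'p, hmin'⟩ :=
      exists_elementary (M := (P : Subgroup K).map K.subtype) inferInstance hP0
    obtain rfl : p = r := by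
      haveI := Fact.mk hp
      obtain ⟨⟨v, hv⟩, hv1⟩ := (ne_bot_iff_exists_ne_one).mp hN'ne
      obtain ⟨i, hi⟩ := orderOf_of_isPGroup hN'p hv
      obtain ⟨j, hj⟩ := orderOf_of_isPGroup (P.2.map K.subtype) (hN'P hv)
      have hi0 : i ≠ 0 := fun e => hv1 (Subtype.ext (orderOf_eq_one_iff.mp (by rw [hi, e, pow_zero])))
      exact (Nat.prime_dvd_prime_iff_eq hp hr).mp (hp.dvd_of_dvd_pow (hj ▸ hi ▸ dvd_pow_self p hi0))
    haveI := hN'n
    have hN'K : N' ≤ K := hN'P.trans (map_subtype_le _)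
    have hKN' : K ≤ centralizer (N' : Set G) := minimal_le_centralizer hN'ne hN'K hmin'
    have hN'KK : centralizer (N' : Set G) ≤ K := by
      haveI := h.tame.isNilpotent_centralizer hN'p hN'ne
      have hNK : N ≤ K := fun n hn => mem_centralizer_of_comm fun m hm => hab m hm n hn
      exact minimal_le_centralizer hNne (hNK.trans hKN') hmin
    -- the order of K divides a
    obtain ⟨z, hz, z', hz', hzz⟩ : ∃ z, (z ∈ N ∧ z ≠ 1) ∧ ∃ z', (z' ∈ N' ∧ z' ≠ 1) ∧ cc (z * z') = a := by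
      by_contra hcon
      push Not at hcon
      have heq : ∀ z z', z ∈ N ∧ z ≠ 1 → z' ∈ N' ∧ z' ≠ 1 →
          centralizer ({z} : Set G) = centralizer ({z'} : Set G) ∧ cc z' = b := by
        intro z z' hz hz'
        have hzK : z ∈ K := mem_centralizer_of_comm fun m hm => hab m hm z hz.1
        have hz'K : z' ∈ K := hN'K hz'.1
        have hcom : Commute z z' := mem_centralizer_iff.mp hz'K z hz.1
        obtain ⟨i, hi⟩ := orderOf_of_isPGroup hNp hz.1
        obtain ⟨j, hj⟩ := orderOf_of_isPGroup hN'p hz'.1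
        have hco : (orderOf z).Coprime (orderOf z') := by
          rw [hi, hj]; exact Nat.Coprime.pow i j ((Nat.coprime_primes Nat.prime_two hr).mpr hr2.symm)
        have hne : z * z' ≠ 1 := mul_ne_one_of_coprime hz.2 hco
        have hmul := mul_cent hcom hco
        have hzzb : cc (z * z') = b := by
          rcases h.val _ hne with e | e | e
          · exact absurd e (hcon z hz z' hz')
          · exact e
          · exact absurd e (hnec _ hne (hKb _ (mul_mem hzK hz'K)))
        have key : ∀ x : G, x ≠ 1 → x ∈ K → centralizer ({z * z'} : Set G) ≤ centralizer ({x} : Set G) →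
            centralizer ({z * z'} : Set G) = centralizer ({x} : Set G) ∧ cc x = b := by
          intro x hx hxK hle'
          have hd := hzzb ▸ cc_le_of_le hle'
          have hxb : cc x = b := by
            rcases h.val x hx with e | e | e
            · exact absurd (e ▸ hd) h.not_b_dvd_a
            · exact e
            · exact absurd e (hnec x hx (hKb x hxK))
          exact ⟨eq_of_le_of_card_ge hle' (by show cc x ≤ cc (z * z'); rw [hxb, hzzb]), hxb⟩
        obtain ⟨e1, -⟩ := key z hz.2 hzK (hmul.le.trans inf_le_left)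
        obtain ⟨e2, e3⟩ := key z' hz'.2 hz'K (hmul.le.trans inf_le_right)
        exact ⟨e1.symm.trans e2, e3⟩
      obtain ⟨⟨z', hz'⟩, hz'1⟩ := (ne_bot_iff_exists_ne_one).mp hN'ne
      have hz'' : z' ∈ N' ∧ z' ≠ 1 := ⟨hz', fun e => hz'1 (Subtype.ext e)⟩
      obtain ⟨R, hR⟩ := exists_sylow_le' (x := z') (r := 2) ((heq v0 z' ⟨hv0, hv01⟩ hz'').2.symm ▸ hfb)
      refine hsol R fun g hg => mem_centralizer_of_comm fun n hn => ?_
      rcases eq_or_ne n 1 with rfl | hn1
      · simp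
      exact (mem_cent.mp ((heq n z' ⟨hn, hn1⟩ hz'').1.symm ▸ hR hg)).symm
    have hKa : Nat.card K ∣ a := by
      rw [← hzz]
      refine card_dvd_of_le fun g hg => cent_mul_le z z' ⟨le_cent_of_centralizer hz.1 hg, ?_⟩
      exact le_cent_of_centralizer hz'.1 (hKN' hg)
    -- an element of the odd order commuting with y
    obtain ⟨T, hT⟩ := Sylow.exists_subgroup_card_pow_prime p (G := centralizer ({y} : Set G))
      (n := (Nat.card K).factorization p) (((Nat.ordProj_dvd _ _).trans hKa).trans (dvd_of_eq hya.symm))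
    set T' := T.map (centralizer ({y} : Set G)).subtype
    have hT' : Nat.card T' = p ^ (Nat.card K).factorization p := by
      rw [Nat.card_congr (T.equivMapOfInjective _ (subtype_injective _)).symm.toEquiv, hT]
    have hTy : T' ≤ centralizer ({y} : Set G) := map_subtype_le _
    obtain ⟨u, huT, huK⟩ : ∃ u ∈ T', u ∉ K := by
      by_contra hcon
      push Not at hcon
      haveI : Subsingleton (Sylow p K) := (Sylow.unique_of_normal P hPn).instSubsingleton
      have hp' : IsPGroup p (T'.subgroupOf K) := (IsPGroup.of_card (G := T') hT').comap_subtype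
      obtain ⟨P', hP'⟩ := hp'.exists_le_sylow
      rw [Subsingleton.elim P' P] at hP'
      have e : T' = (P : Subgroup K).map K.subtype := by
        refine eq_of_le_of_card_ge (fun u hu => ⟨⟨u, hcon u hu⟩, hP' (mem_subgroupOf.mpr hu), rfl⟩) (le_of_eq ?_)
        rw [hT', ← Nat.card_congr ((P : Subgroup K).equivMapOfInjective _ K.subtype_injective).toEquiv,
          P.card_eq_multiplicity]
      exact hyK (hN'KK (mem_centralizer_of_comm fun n hn => mem_cent.mp (hTy (e ▸ hN'P hn))))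
    have hu1 : u ≠ 1 := fun e => huK (e ▸ one_mem K)
    have hud : orderOf u ∣ a := hya ▸ orderOf_dvd_cc (hTy huT)
    have hua : cc u = a := hB u huK (hud.trans h.hab)
    have hupow := orderOf_of_isPGroup (IsPGroup.of_card (G := T') hT') huT
    have huy : Commute u y := mem_cent.mp (hTy huT)
    have hyco : (orderOf y).Coprime p := hky ▸ Nat.Coprime.pow_left ky ((Nat.coprime_primes Nat.prime_two hr).mpr hr2.symm)
    have hco : (orderOf u).Coprime (orderOf y) := by
      obtain ⟨i, hi⟩ := hupow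
      exact hi ▸ hyco.symm.pow_left i
    exact equal_absurd hab' hN'p hupow hyco huy
      (le_antisymm ((h.minC_a hu1 hua).le huy hco) (hmy.le huy.symm hco.symm)) fun e => hyK (hN'KK e)
  -- K is a 2-group
  push Not at hodd
  have hKodd : ∀ (v : G) (s : ℕ), s.Prime → s ≠ 2 → orderOf v = s → v ∉ K := fun v s hs hs2 hv hvK =>
    hs2 (by_contra fun _ => hodd s hs hs2 (hv ▸ Subgroup.orderOf_dvd_natCard K hvK))
  have ha2 : ∀ s : ℕ, s.Prime → s ∣ a → s = 2 := by
    intro s hs hsa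
    by_contra hs2
    obtain ⟨v, hvy, hvo, hv1⟩ := exists_orderOf_dvd hs (H := centralizer ({y} : Set G))
      (show s ∣ cc y from hya.symm ▸ hsa)
    have hvK := hKodd v s hs hs2 hvo
    have hva : cc v = a := hB v hvK (hvo ▸ hsa.trans h.hab)
    have hyv : Commute y v := (mem_cent.mp hvy).symm
    have hvco : (orderOf v).Coprime 2 := hvo ▸ (Nat.coprime_primes hs Nat.prime_two).mpr hs2
    have hco : (orderOf y).Coprime (orderOf v) := hky ▸ hvco.symm.pow_left ky
    exact equal_absurd hab hNp ⟨ky, hky⟩ hvco hyv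
      (le_antisymm (hmy.le hyv hco) ((h.minC_a hv1 hva).le hyv.symm hco.symm)) hvK
  have hb2 : ∀ s : ℕ, s.Prime → s ∣ b → s = 2 := by
    intro s hs hsb
    by_contra hs2
    haveI := Fact.mk hs
    obtain ⟨v, hv⟩ := exists_prime_orderOf_dvd_card' (G := G) s (hsb.trans h.dvd_g.1)
    have hva := hB v (hKodd v s hs hs2 hv) (hv ▸ hsb)
    exact hs2 (ha2 s hs (hv ▸ hva ▸ orderOf_dvd_cc (self_mem v)))
  have hb : b = 2 ^ b.primeFactorsList.length :=
    Nat.eq_prime_pow_of_unique_prime_dvd h.pos.1.ne' (fun {d} hd hdb => hb2 d hd hdb)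
  have hR : ∀ x : G, x ≠ 1 → cc x = c → x ∈ solvableRadical G := by
    intro x hx hxc
    have hi : (centralizer ({x} : Set G)).index = 2 ^ b.primeFactorsList.length := by
      have h1 := Chain.idx_mul_cc x
      rw [← h.mul_eq, hxc, mul_comm b] at h1
      exact (Nat.eq_of_mul_eq_mul_left h.pos.2 h1).trans hb
    exact CfsgLib.le_solvableRadical (CfsgLib.Kazarin.isSolvable_normalClosure Nat.prime_two x hi)
      (subset_normalClosure (Set.mem_singleton x))
  set Rd := solvableRadical G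
  haveI : Rd.Normal := CfsgLib.solvableRadical_normal
  have hidx : Rd.index = 2 ^ Rd.index.primeFactorsList.length := by
    refine Nat.eq_prime_pow_of_unique_prime_dvd index_ne_zero_of_finite fun {s} hs hsd => ?_
    by_contra hs2
    haveI := Fact.mk hs
    obtain ⟨T⟩ : Nonempty (Sylow s G) := inferInstance
    refine T.not_dvd_index (hsd.trans (index_dvd_of_le fun u hu => ?_))
    rcases eq_or_ne u 1 with rfl | hu1
    · exact one_mem _
    obtain ⟨i, hi⟩ := orderOf_of_isPGroup T.2 hu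
    rcases h.orderOf_dvd hu1 with ⟨e, -, -⟩ | ⟨-, hd, -⟩
    · exact hR u hu1 e
    · exfalso
      have hi0 : i ≠ 0 := fun e => hu1 (orderOf_eq_one_iff.mp (by rw [hi, e, pow_zero]))
      exact hs2 (hb2 s hs ((hi ▸ dvd_pow_self s hi0).trans hd))
  haveI : Group.IsNilpotent (G ⧸ Rd) := (IsPGroup.of_card (G := G ⧸ Rd) (p := 2) ((index_eq_card Rd).symm.trans hidx)).isNilpotent
  exact h.ns ((Group.isSolvable_iff_subgroup_quotient Rd).mpr ⟨CfsgLib.isSolvable_solvableRadical, inferInstance⟩)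

end Chain

end CfsgLib.ConjRankThree
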